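import Groth.Agent.CompSurj.Top
import Groth.Agent.GeomConn.Basic
import Groth.Prelude.Def_CurvBase
import Mathlib

/-!
# Connected components of a field base change surject onto connected components
-/

set_option autoImplicit false
set_option linter.style.haveILetI false

universe u

open CategoryTheory Limits AlgebraicGeometry TopologicalSpace TensorProduct Groth.Agent.GrpField

namespace Groth.Agent.CompSurj

theorem isOpenMap_restrict {α β : Type*} [TopologicalSpace α] [TopologicalSpace β] {g : α → β}
    (hg : IsOpenMap g) {P : Set α} {Q : Set β} (h : ∀ a, a ∈ P ↔ g a ∈ Q) :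
    IsOpenMap (fun a : P => (⟨g a, (h a).1 a.2⟩ : Q)) := by
  rintro U ⟨V, hV, rfl⟩
  refine ⟨g '' V, hg V hV, ?_⟩
  ext c
  constructor
  · rintro ⟨a, ha, hac⟩
    exact ⟨⟨a, (h a).2 (hac ▸ c.2)⟩, ha, Subtype.ext hac⟩
  · rintro ⟨a, ha, rfl⟩
    exact ⟨a, ha, rfl⟩

theorem isClosedMap_restrict {α β : Type*} [TopologicalSpace α] [TopologicalSpace β] {g : α → β}
    (hg : IsClosedMap g) {P : Set α} {Q : Set β} (h : ∀ a, a ∈ P ↔ g a ∈ Q) :
    IsClosedMap (fun a : P => (⟨g a, (h a).1 a.2⟩ : Q)) := by
  intro F hF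
  obtain ⟨V, hV, rfl⟩ := isClosed_induced_iff.1 hF
  refine isClosed_induced_iff.2 ⟨g '' V, hg V hV, ?_⟩
  ext c
  constructor
  · rintro ⟨a, ha, hac⟩
    exact ⟨⟨a, (h a).2 (hac ▸ c.2)⟩, ha, Subtype.ext hac⟩
  · rintro ⟨a, ha, rfl⟩
    exact ⟨a, ha, rfl⟩

variable {k : Type u} [Field k]

/-- `Spec F ⟶ Spec k`. -/
noncomputable abbrev w (F : Type u) [Field F] [Algebra k F] :
    Spec (CommRingCat.of F) ⟶ Spec (CommRingCat.of k) :=
  Spec.map (CommRingCat.ofHom (algebraMap k F))

theorem exists_finite_level {K : Type u} [Field K] [Algebra k K] [Algebra.IsAlgebraic k K] {R : Type u}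
    [CommRing R] [Algebra k R] (e : R ⊗[k] K) :
    ∃ F : IntermediateField k K, FiniteDimensional k F ∧
      e ∈ Set.range (Algebra.TensorProduct.map (AlgHom.id k R) F.val) := by
  induction e using TensorProduct.induction_on with
  | zero => exact ⟨⊥, inferInstance, 0, map_zero _⟩
  | tmul a b =>
    refine ⟨IntermediateField.adjoin k {b},
      IntermediateField.adjoin.finiteDimensional (Algebra.IsIntegral.isIntegral b),
      a ⊗ₜ ⟨b, IntermediateField.subset_adjoin k _ rfl⟩, ?_⟩
    rfl
  | add x y hx hy =>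
    obtain ⟨F, hF, x', rfl⟩ := hx
    obtain ⟨G, hG, y', rfl⟩ := hy
    refine ⟨F ⊔ G, IntermediateField.finiteDimensional_sup F G,
      Algebra.TensorProduct.map (AlgHom.id k R) (IntermediateField.inclusion le_sup_left) x' +
        Algebra.TensorProduct.map (AlgHom.id k R) (IntermediateField.inclusion le_sup_right) y', ?_⟩
    rw [map_add, ← AlgHom.comp_apply, ← AlgHom.comp_apply, ← Algebra.TensorProduct.map_comp,
      ← Algebra.TensorProduct.map_comp]
    congr 1

section Level

variable {X : Scheme.{u}} (f : X ⟶ Spec (CommRingCat.of k)) (F K : Type u) [Field F] [Field K] [Algebra k F]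
  [Algebra k K] [Algebra F K] [IsScalarTower k F K]

theorem r_w : Spec.map (CommRingCat.ofHom (algebraMap F K)) ≫ w F = w (k := k) K := by
  rw [← Spec.map_comp, ← CommRingCat.ofHom_comp, ← IsScalarTower.algebraMap_eq]

/-- The projection between base changes to two fields. -/
noncomputable def proj : pullback f (w K) ⟶ pullback f (w F) :=
  pullback.lift (pullback.fst _ _) (pullback.snd _ _ ≫ Spec.map (CommRingCat.ofHom (algebraMap F K)))
    (by rw [Category.assoc, r_w F K, pullback.condition])

theorem proj_fst : proj f F K ≫ pullback.fst _ _ = pullback.fst f (w K) := pullback.lift_fst _ _ _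

theorem proj_snd : proj f F K ≫ pullback.snd _ _ =
    pullback.snd f (w K) ≫ Spec.map (CommRingCat.ofHom (algebraMap F K)) := pullback.lift_snd _ _ _

theorem isPullback_proj : IsPullback (proj f F K) (pullback.snd f (w K)) (pullback.snd f (w F))
    (Spec.map (CommRingCat.ofHom (algebraMap F K))) := by
  refine IsPullback.of_right ?_ (proj_snd f F K) (IsPullback.of_hasPullback f (w F))
  rw [proj_fst, r_w F K]
  exact IsPullback.of_hasPullback f (w K)

instance isIntegralHom_proj [Algebra.IsAlgebraic k K] : IsIntegralHom (proj f F K) := by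
  haveI : Algebra.IsAlgebraic F K := Algebra.IsAlgebraic.tower_top (K := k) F
  haveI : IsIntegralHom (Spec.map (CommRingCat.ofHom (algebraMap F K))) :=
    IsIntegralHom.SpecMap_iff.2 Algebra.IsIntegral.isIntegral
  exact MorphismProperty.of_isPullback (P := @IsIntegralHom) (isPullback_proj f F K).flip inferInstance

instance universallyOpen_proj : UniversallyOpen (proj f F K) := by
  haveI : UniversallyOpen (Spec.map (CommRingCat.ofHom (algebraMap F K))) := PointBase.uopen _ _
  exact MorphismProperty.of_isPullback (P := @UniversallyOpen) (isPullback_proj f F K).flip inferInstance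

instance surjective_proj : Surjective (proj f F K) := by
  haveI : Surjective (Spec.map (CommRingCat.ofHom (algebraMap F K))) := PointBase.surj _ _
  exact MorphismProperty.of_isPullback (P := @Surjective) (isPullback_proj f F K).flip inferInstance

theorem proj_proj (G : Type u) [Field G] [Algebra k G] [Algebra F G] [IsScalarTower k F G] [Algebra G K]
    [IsScalarTower k G K] [IsScalarTower F G K] : proj f G K ≫ proj f F G = proj f F K := by
  apply pullback.hom_ext
  · rw [Category.assoc, proj_fst, proj_fst, proj_fst]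
  · rw [Category.assoc, proj_snd, ← Category.assoc, proj_snd, Category.assoc, ← Spec.map_comp,
      ← CommRingCat.ofHom_comp, ← IsScalarTower.algebraMap_eq, proj_snd]

/-- The chart `Spec (R ⊗ F)` of the base change. -/
noncomputable def chart {R : CommRingCat.{u}} [Algebra k R] (j : Spec R ⟶ X)
    (hj : Spec.map (CommRingCat.ofHom (algebraMap k R)) = j ≫ f) :
    Spec (CommRingCat.of (R ⊗[k] F)) ⟶ pullback f (w F) :=
  (pullbackSpecIso k R F).inv ≫
    pullback.map _ _ f (w F) j (𝟙 _) (𝟙 _) (by rw [hj, Category.comp_id]) (by simp)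

variable {R : CommRingCat.{u}} [Algebra k R] (j : Spec R ⟶ X)
  (hj : Spec.map (CommRingCat.ofHom (algebraMap k R)) = j ≫ f)

theorem chart_fst : chart f F j hj ≫ pullback.fst _ _ =
    Spec.map (CommRingCat.ofHom Algebra.TensorProduct.includeLeftRingHom) ≫ j := by
  rw [chart, Category.assoc, pullback.map, pullback.lift_fst]
  exact pullbackSpecIso_inv_fst_assoc k R F j

theorem chart_snd : chart f F j hj ≫ pullback.snd _ _ =
    Spec.map (CommRingCat.ofHom Algebra.TensorProduct.includeRight.toRingHom) := by
  rw [chart, Category.assoc, pullback.map, pullback.lift_snd, Category.comp_id]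
  exact pullbackSpecIso_inv_snd k R F

instance isOpenImmersion_chart [IsOpenImmersion j] : IsOpenImmersion (chart f F j hj) := by
  unfold chart
  infer_instance

theorem mem_range_chart [IsOpenImmersion j] {y : ↥(pullback f (w F))}
    (hy : pullback.fst f (w F) y ∈ Set.range j) : y ∈ Set.range (chart f F j hj) := by
  rw [chart, Scheme.Hom.comp_base, TopCat.coe_comp, Set.range_comp,
    Set.range_eq_univ.2 (pullbackSpecIso k R F).inv.surjective, Set.image_univ, Scheme.Pullback.range_map]
  exact ⟨hy, ⟨_, rfl⟩⟩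

theorem chart_proj [IsOpenImmersion j] : chart f K j hj ≫ proj f F K = Spec.map (CommRingCat.ofHom
    (Algebra.TensorProduct.map (AlgHom.id k R) (IsScalarTower.toAlgHom k F K)).toRingHom) ≫ chart f F j hj := by
  apply pullback.hom_ext
  · rw [Category.assoc, proj_fst, Category.assoc, chart_fst, chart_fst, ← Category.assoc, ← Spec.map_comp]
    congr 2
    ext x
    simp
  · rw [Category.assoc, proj_snd, ← Category.assoc, chart_snd, Category.assoc, chart_snd, ← Spec.map_comp,
      ← Spec.map_comp]
    congr 1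

end Level

theorem finite_fibre_fst {X : Scheme.{u}} (f : X ⟶ Spec (CommRingCat.of k)) (F : Type u) [Field F] [Algebra k F]
    [FiniteDimensional k F] (x : X) : ((pullback.fst f (w (k := k) F)) ⁻¹' {x}).Finite := by
  haveI : IsFinite (w (k := k) F) := (IsFinite.SpecMap_iff _).2 (RingHom.finite_algebraMap.2 inferInstance)
  exact (pullback.fst f (w (k := k) F)).finite_preimage_singleton x

/-- Algebraic extensions: the connected component of any point surjects. -/
theorem exists_mem_connectedComponent_of_isAlgebraic {K : Type u} [Field K] [Algebra k K]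
    [Algebra.IsAlgebraic k K] {X : Scheme.{u}} (f : X ⟶ Spec (CommRingCat.of k)) (a : ↥(pullback f (w K)))
    (z : X) (hz : z ∈ connectedComponent (pullback.fst f (w K) a)) :
    ∃ b ∈ connectedComponent a, pullback.fst f (w K) b = z := by
  let ι := {F : IntermediateField k K // FiniteDimensional k F}
  haveI : Nonempty ι := ⟨⟨⊥, inferInstance⟩⟩
  haveI : IsDirectedOrder ι := ⟨fun F G =>
    ⟨⟨F.1 ⊔ G.1, haveI := F.2; haveI := G.2; IntermediateField.finiteDimensional_sup F.1 G.1⟩,
      le_sup_left (a := F.1) (b := G.1), le_sup_right (a := F.1) (b := G.1)⟩⟩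
  let pF : ∀ F : ι, pullback f (w K) ⟶ pullback f (w F.1) := fun F => proj f F.1 K
  have hpF : ∀ F : ι, pF F ≫ pullback.fst _ _ = pullback.fst f (w K) := fun F => proj_fst f F.1 K
  haveI : ∀ F : ι, UniversallyOpen (w F.1 : Spec (CommRingCat.of F.1) ⟶ Spec (CommRingCat.of k)) :=
    fun F => PointBase.uopen _ _
  haveI : ∀ F : ι, IsFinite (w F.1 : Spec (CommRingCat.of F.1) ⟶ Spec (CommRingCat.of k)) := fun F => by
    haveI := F.2
    exact (IsFinite.SpecMap_iff _).2 (RingHom.finite_algebraMap.2 inferInstance)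
  let t : ∀ F G : ι, F ≤ G → (pullback f (w G.1) ⟶ pullback f (w F.1)) := fun F G h =>
    letI := (IntermediateField.inclusion h).toRingHom.toAlgebra
    haveI : IsScalarTower k F.1 G.1 := .of_algebraMap_eq fun _ => rfl
    proj f F.1 G.1
  have ht : ∀ F G (h : F ≤ G), pF G ≫ t F G h = pF F := fun F G h => by
    letI := (IntermediateField.inclusion h).toRingHom.toAlgebra
    haveI : IsScalarTower k F.1 G.1 := .of_algebraMap_eq fun _ => rfl
    haveI : IsScalarTower F.1 G.1 K := .of_algebraMap_eq fun _ => rfl
    exact proj_proj f F.1 K G.1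
  have htf : ∀ F G (h : F ≤ G), t F G h ≫ pullback.fst _ _ = pullback.fst f (w G.1) :=
    fun F G h => pullback.lift_fst _ _ _
  let C := connectedComponent (pullback.fst f (w K) a)
  haveI : PreconnectedSpace C := Subtype.preconnectedSpace isPreconnected_connectedComponent
  let π : ↥(pullback f (w K)) → X := fun y => pullback.fst f (w K) y
  have hmem : ∀ (F : ι) y, y ∈ π ⁻¹' C ↔ pF F y ∈ (fun v => pullback.fst f (w F.1) v) ⁻¹' C := fun F y => by
    show pullback.fst f (w K) y ∈ C ↔ pullback.fst f (w F.1) (pF F y) ∈ C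
    rw [← Scheme.Hom.comp_apply, hpF]
  have hgen : ∀ (U : Set ↥(π ⁻¹' C)), IsOpen U → ∀ y ∈ U, ∃ F : ι,
      ∃ V : Set ↥((fun v => pullback.fst f (w F.1) v) ⁻¹' C), IsOpen V ∧
        (⟨pF F y.1, (hmem F y.1).1 y.2⟩ : ↥((fun v => pullback.fst f (w F.1) v) ⁻¹' C)) ∈ V ∧
        (fun y : ↥(π ⁻¹' C) => (⟨pF F y.1, (hmem F y.1).1 y.2⟩ : ↥((fun v => pullback.fst f (w F.1) v) ⁻¹' C))) ⁻¹' V ⊆ U := by
    intro U hU y hy
    -- the topology of the limit is generated by the finite levels
    obtain ⟨U', hU', rfl⟩ := hU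
    obtain ⟨R, j, hj, hx', -⟩ := Scheme.exists_affine_mem_range_and_range_subset
      (show π y.1 ∈ (⊤ : X.Opens) from trivial)
    haveI := hj
    letI : Algebra k R := (Spec.preimage (j ≫ f)).hom.toAlgebra
    have hjf : Spec.map (CommRingCat.ofHom (algebraMap k R)) = j ≫ f := Spec.map_preimage (j ≫ f)
    obtain ⟨s, hs⟩ := mem_range_chart f K j hjf hx'
    obtain ⟨_, ⟨e, rfl⟩, hse, heU⟩ := PrimeSpectrum.isTopologicalBasis_basic_opens.exists_subset_of_mem_open
      (show s ∈ chart f K j hjf ⁻¹' U' by show chart f K j hjf s ∈ U'; rw [hs]; exact hy)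
      (hU'.preimage (chart f K j hjf).continuous)
    obtain ⟨F, hF, e', rfl⟩ := exists_finite_level e
    let i : ι := ⟨F, hF⟩
    let φ := CommRingCat.ofHom (Algebra.TensorProduct.map (AlgHom.id k R) (IsScalarTower.toAlgHom k F K)).toRingHom
    have hnat : chart f K j hjf ≫ pF i = Spec.map φ ≫ chart f F j hjf := chart_proj f F K j hjf
    let D : Set ↥(Spec (CommRingCat.of (R ⊗[k] F))) := (PrimeSpectrum.basicOpen e').1
    have hD : IsOpen D := (PrimeSpectrum.basicOpen e').2
    refine ⟨i, Subtype.val ⁻¹' (chart f F j hjf '' D),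
      ((chart f F j hjf).isOpenMap D hD).preimage continuous_subtype_val,
      ⟨Spec.map φ s, (by exact hse), ?_⟩, ?_⟩
    · show chart f F j hjf (Spec.map φ s) = pF i y.1
      rw [← Scheme.Hom.comp_apply, ← hnat, Scheme.Hom.comp_apply, hs]
    rintro ⟨y', hy'C⟩ ⟨v, hv, hvy⟩
    change chart f F j hjf v = pF i y' at hvy
    have hy'r : y' ∈ Set.range (chart f K j hjf) := mem_range_chart f K j hjf (by
      rw [← hpF i, Scheme.Hom.comp_apply, ← hvy, ← Scheme.Hom.comp_apply, chart_fst, Scheme.Hom.comp_apply]
      exact ⟨_, rfl⟩)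
    obtain ⟨s', rfl⟩ := hy'r
    refine heU (?_ : s' ∈ PrimeSpectrum.basicOpen _)
    have h2 : Spec.map φ s' = v := (chart f F j hjf).isOpenEmbedding.injective (by
      rw [hvy, ← Scheme.Hom.comp_apply, ← Scheme.Hom.comp_apply, hnat])
    rw [← h2] at hv
    exact hv
  obtain ⟨⟨b, hbC⟩, hb, hbz⟩ := exists_mem_connectedComponent (X := C) (Y := ↥(π ⁻¹' C))
    (Yi := fun F : ι => ↥((fun v => pullback.fst f (w F.1) v) ⁻¹' C))
    (fun F y => ⟨pF F y.1, (hmem F y.1).1 y.2⟩) (fun F v => ⟨pullback.fst f (w F.1) v.1, v.2⟩)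
    (fun F G h v => ⟨t F G h v.1, by
      show pullback.fst f (w F.1) (t F G h v.1) ∈ C
      rw [← Scheme.Hom.comp_apply, htf]; exact v.2⟩)
    (fun y => ⟨π y.1, y.2⟩)
    (fun F y => Subtype.ext (by
      show pullback.fst f (w F.1) (pF F y.1) = π y.1
      rw [← Scheme.Hom.comp_apply, hpF]))
    (fun F G h y => Subtype.ext (by
      show t F G h (pF G y.1) = pF F y.1
      rw [← Scheme.Hom.comp_apply, ht]))
    (fun F v => by
      obtain ⟨y, hy⟩ := (pF F).surjective v.1
      exact ⟨⟨y, (hmem F y).2 (hy ▸ v.2)⟩, Subtype.ext hy⟩)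
    (fun F => ((pF F).continuous.comp continuous_subtype_val).subtype_mk _)
    (fun F => isOpenMap_restrict (pF F).isOpenMap (hmem F))
    (fun F => isClosedMap_restrict (pF F).isClosedMap (hmem F))
    (fun F c => by
      refine Topology.IsInducing.subtypeVal.isCompact_iff.2 ?_
      convert (pF F).isCompact_preimage_singleton c.1 using 1
      ext y
      exact ⟨fun ⟨y', hy', e⟩ => e ▸ congrArg Subtype.val hy',
        fun hy => ⟨⟨y, (hmem F y).2 (by rw [show pF F y = c.1 from hy]; exact c.2)⟩, Subtype.ext hy, rfl⟩⟩)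
    (fun F => isOpenMap_restrict (pullback.fst f (w F.1)).isOpenMap fun _ => Iff.rfl)
    (fun F => isClosedMap_restrict (pullback.fst f (w F.1)).isClosedMap fun _ => Iff.rfl)
    (fun F x => by
      haveI := F.2
      refine Set.Finite.of_finite_image (f := Subtype.val) ((finite_fibre_fst f F.1 x.1).subset ?_)
        Subtype.val_injective.injOn
      rintro _ ⟨v, hv, rfl⟩
      exact congrArg Subtype.val hv)
    hgen ⟨a, mem_connectedComponent⟩ ⟨z, hz⟩
  exact ⟨b, continuous_subtype_val.mapsTo_connectedComponent _ hb, congrArg Subtype.val hbz⟩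

/-- The image of a connected component of a field base change is a connected component. -/
theorem image_connectedComponent {K : Type u} [Field K] [Algebra k K] {X : Scheme.{u}}
    (f : X ⟶ Spec (CommRingCat.of k)) (x' : ↥(pullback f (w K))) :
    (pullback.fst f (w K)) '' connectedComponent x' = connectedComponent (pullback.fst f (w K) x') := by
  refine subset_antisymm ((pullback.fst f (w K)).continuous.image_connectedComponent_subset x') fun z hz => ?_
  let k' := AlgebraicClosure k
  let L := AlgebraicClosure K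
  let ι : k' →ₐ[k] L := IsAlgClosed.lift
  letI := ι.toRingHom.toAlgebra
  let g := Spec.map (CommRingCat.ofHom (algebraMap k k'))
  let v := Spec.map (CommRingCat.ofHom (algebraMap k' L))
  let r := Spec.map (CommRingCat.ofHom (algebraMap K L))
  haveI : Surjective r := PointBase.surj L r
  have e : v ≫ g = r ≫ Spec.map (CommRingCat.ofHom (algebraMap k K)) := by
    rw [← Spec.map_comp, ← Spec.map_comp]
    congr 1
    ext a
    exact (ι.commutes a).trans (IsScalarTower.algebraMap_apply k K L a)
  let wK := Spec.map (CommRingCat.ofHom (algebraMap k K))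
  let q : pullback (pullback.snd f g) v ⟶ pullback f wK :=
    (pullbackLeftPullbackSndIso f g v).hom ≫ (pullback.congrHom rfl e).hom ≫
      (pullbackLeftPullbackSndIso f wK r).inv ≫ pullback.fst _ r
  have hq : q ≫ pullback.fst f wK = pullback.fst (pullback.snd f g) v ≫ pullback.fst f g := by
    simp [q, wK, pullback.map]
    erw [pullback.lift_fst]
    exact pullbackLeftPullbackSndIso_hom_fst f g v
  haveI : Surjective q := inferInstance
  have hqa : ∀ t, pullback.fst f (w K) (q t) = pullback.fst f g (pullback.fst (pullback.snd f g) v t) := fun t => by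
    rw [← Scheme.Hom.comp_apply, hq, Scheme.Hom.comp_apply]
  obtain ⟨t, rfl⟩ := q.surjective x'
  rw [hqa] at hz
  obtain ⟨b, hb, hbz⟩ := exists_mem_connectedComponent_of_isAlgebraic f (pullback.fst (pullback.snd f g) v t) z hz
  have hconn := Groth.Agent.GeomConn.isConnected_preimage_fst (k := k') (K := L) (pullback.snd f g)
    (isConnected_connectedComponent (x := pullback.fst (pullback.snd f g) v t))
  haveI : Surjective v := PointBase.surj L v
  obtain ⟨s, rfl⟩ := (pullback.fst (pullback.snd f g) v).surjective b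
  refine ⟨q s, ?_, by rw [hqa, hbz]⟩
  exact q.continuous.mapsTo_connectedComponent t
    (hconn.isPreconnected.subset_connectedComponent mem_connectedComponent hb)

end Groth.Agent.CompSurj
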