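import Mathlib

/-!
# Connected components of a limit of open closed maps with finite fibres surject

Abstract topological statement: `Y` is built from finite levels `Yi i`, open, closed and with finite fibres
over a preconnected space `X`.  Then every connected component of `Y` meets every fibre.
-/

set_option autoImplicit false

universe v w

namespace Groth.Agent.CompSurj

open Set

/-- In a space mapping open, closed and with finite fibres to a preconnected space, every point has a clopen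
preconnected neighbourhood. -/
theorem exists_clopen_preconnected {Y X : Type*} [TopologicalSpace Y] [TopologicalSpace X] [PreconnectedSpace X]
    {q : Y → X} (ho : IsOpenMap q) (hc : IsClosedMap q) (hfin : ∀ x, (q ⁻¹' {x}).Finite) (y : Y) :
    ∃ T : Set Y, IsClopen T ∧ y ∈ T ∧ IsPreconnected T := by
  classical
  let S := q ⁻¹' {q y}
  have hmeet : ∀ W : Set Y, IsClopen W → W.Nonempty → (W ∩ S).Nonempty := by
    intro W hW hne
    have h1 : q '' W = univ :=
      IsClopen.eq_univ ⟨hc W hW.1, ho W hW.2⟩ (hne.image q)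
    obtain ⟨w, hw, hwz⟩ := h1.symm.subset (mem_univ (q y))
    exact ⟨w, hw, hwz⟩
  have hfinClopen : {W : Set Y | IsClopen W}.Finite := by
    refine Set.Finite.of_finite_image ((hfin (q y)).finite_subsets.subset ?_) (f := fun W => W ∩ S) ?_
    · rintro _ ⟨W, -, rfl⟩
      exact inter_subset_right
    · intro W hW W' hW' he
      have key : ∀ A B : Set Y, IsClopen A → IsClopen B → A ∩ S ⊆ B ∩ S → A ⊆ B := by
        intro A B hA hB hsub a ha
        by_contra hab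
        obtain ⟨w, ⟨hwA, hwB⟩, hwS⟩ := hmeet (A \ B) (hA.diff hB) ⟨a, ha, hab⟩
        exact hwB (hsub ⟨hwA, hwS⟩).1
      exact subset_antisymm (key W W' hW hW' he.subset) (key W' W hW' hW he.symm.subset)
  have hfin' : {W : Set Y | IsClopen W ∧ y ∈ W}.Finite := hfinClopen.subset fun W hW => hW.1
  let T := ⋂ W ∈ {W : Set Y | IsClopen W ∧ y ∈ W}, W
  have hT : IsClopen T := hfin'.isClopen_biInter fun W hW => hW.1
  have hyT : y ∈ T := mem_iInter₂.2 fun W hW => hW.2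
  have hmin : ∀ W, IsClopen W → y ∈ W → T ⊆ W := fun W hW hy => biInter_subset_of_mem ⟨hW, hy⟩
  refine ⟨T, hT, hyT, ?_⟩
  rw [isPreconnected_iff_subset_of_disjoint]
  intro u v hu hv hsub hdisj
  have hclu : IsClopen (T ∩ u) := by
    refine ⟨?_, hT.2.inter hu⟩
    rw [show T ∩ u = T ∩ vᶜ from ?_]
    · exact hT.1.inter hv.isClosed_compl
    ext z
    constructor
    · rintro ⟨hz, hzu⟩
      exact ⟨hz, fun hzv => (hdisj.subset ⟨hz, hzu, hzv⟩ : z ∈ (∅ : Set Y))⟩
    · rintro ⟨hz, hzv⟩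
      exact ⟨hz, (hsub hz).resolve_right hzv⟩
  rcases hsub hyT with h | h
  · exact Or.inl fun z hz => (hmin _ hclu ⟨hyT, h⟩ hz).2
  · refine Or.inr fun z hz => (hsub hz).resolve_left fun hzu => ?_
    have h2 := hmin _ (hT.diff hclu) ⟨hyT, fun hh => (hdisj.subset ⟨hyT, hh.2, h⟩ : y ∈ (∅ : Set Y))⟩ hz
    exact h2.2 ⟨hz, hzu⟩

variable {X : Type v} {Y : Type v} [TopologicalSpace X] [TopologicalSpace Y] {ι : Type w} [Preorder ι]
  [IsDirectedOrder ι] [Nonempty ι] {Yi : ι → Type v} [∀ i, TopologicalSpace (Yi i)]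

/-- Every connected component of `Y` meets every fibre over the preconnected space `X`. -/
theorem exists_mem_connectedComponent [PreconnectedSpace X] (p : ∀ i, Y → Yi i) (q : ∀ i, Yi i → X)
    (t : ∀ i j, i ≤ j → Yi j → Yi i) (π : Y → X) (hpπ : ∀ i y, q i (p i y) = π y)
    (htp : ∀ i j (h : i ≤ j) y, t i j h (p j y) = p i y)
    (hps : ∀ i, Function.Surjective (p i)) (hpc : ∀ i, Continuous (p i)) (hpo : ∀ i, IsOpenMap (p i))
    (hpcl : ∀ i, IsClosedMap (p i)) (hpk : ∀ i c, IsCompact (p i ⁻¹' {c}))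
    (hqo : ∀ i, IsOpenMap (q i)) (hqcl : ∀ i, IsClosedMap (q i)) (hqf : ∀ i x, (q i ⁻¹' {x}).Finite)
    (hgen : ∀ (U : Set Y), IsOpen U → ∀ y ∈ U, ∃ i, ∃ V : Set (Yi i), IsOpen V ∧ p i y ∈ V ∧ p i ⁻¹' V ⊆ U)
    (a : Y) (z : X) : ∃ b ∈ connectedComponent a, π b = z := by
  classical
  choose T hT haT hTc using fun i => exists_clopen_preconnected (hqo i) (hqcl i) (hqf i) (p i a)
  -- transition maps are open, closed and map `T j` onto `T i`
  have htimage : ∀ i j (h : i ≤ j) (S : Set (Yi j)), t i j h '' S = p i '' (p j ⁻¹' S) := by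
    intro i j h S
    ext c
    constructor
    · rintro ⟨s, hs, rfl⟩
      obtain ⟨y, rfl⟩ := hps j s
      exact ⟨y, hs, (htp i j h y).symm⟩
    · rintro ⟨y, hy, rfl⟩
      exact ⟨p j y, hy, htp i j h y⟩
  have htT : ∀ i j (h : i ≤ j), t i j h '' T j = T i := by
    intro i j h
    have hcl : IsClopen (t i j h '' T j) := by
      rw [htimage]
      exact ⟨hpcl i _ ((hT j).1.preimage (hpc j)), hpo i _ ((hT j).2.preimage (hpc j))⟩
    have hmem : p i a ∈ t i j h '' T j := ⟨p j a, haT j, htp i j h a⟩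
    refine subset_antisymm (fun c hc => ?_) ((hTc i).subset_isClopen hcl ⟨_, haT i, hmem⟩)
    -- `T j` is preconnected and `T i` is clopen
    obtain ⟨s, hs, rfl⟩ := hc
    by_contra hn
    let W := p j ⁻¹' T j ∩ p i ⁻¹' T i
    have hW : IsClopen (p j '' W) :=
      ⟨hpcl j _ (((hT j).1.preimage (hpc j)).inter ((hT i).1.preimage (hpc i))),
        hpo j _ (((hT j).2.preimage (hpc j)).inter ((hT i).2.preimage (hpc i)))⟩
    obtain ⟨y, ⟨-, hy⟩, hys⟩ := (hTc j).subset_isClopen hW ⟨p j a, haT j, a, ⟨haT j, haT i⟩, rfl⟩ hs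
    rw [← hys, htp] at hn
    exact hn hy
  let Tinf : Set Y := ⋂ i, p i ⁻¹' T i
  have haTinf : a ∈ Tinf := mem_iInter.2 haT
  -- `Tinf` surjects onto each level
  have hsurj : ∀ i, ∀ c ∈ T i, ∃ b ∈ Tinf, p i b = c := by
    intro i c hc
    let J := {j // i ≤ j}
    have : Nonempty J := ⟨⟨i, le_rfl⟩⟩
    obtain ⟨b, hb, hb'⟩ := (hpk i c).inter_iInter_nonempty (fun j : J => p j.1 ⁻¹' T j.1)
      (fun j => (hT j.1).1.preimage (hpc j.1)) (fun s => by
        obtain ⟨k, hk⟩ := Finset.exists_le (s.image Subtype.val ∪ {i})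
        have hik : i ≤ k := hk i (Finset.mem_union_right _ (Finset.mem_singleton_self i))
        obtain ⟨d, hd, hdc⟩ : c ∈ t i k hik '' T k := by rw [htT]; exact hc
        obtain ⟨y, rfl⟩ := hps k d
        refine ⟨y, ?_, mem_iInter₂.2 fun j hj => ?_⟩
        · show p i y = c
          rw [← hdc, htp]
        · show p j.1 y ∈ T j.1
          have hjk : j.1 ≤ k := hk j.1 (Finset.mem_union_left _ (Finset.mem_image_of_mem _ hj))
          rw [← htp j.1 k hjk y, ← htT j.1 k hjk]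
          exact ⟨_, hd, rfl⟩)
    refine ⟨b, mem_iInter.2 fun j => ?_, hb⟩
    obtain ⟨k, hik, hjk⟩ := exists_ge_ge i j
    show p j b ∈ T j
    rw [← htp j k hjk b, ← htT j k hjk]
    exact ⟨_, mem_iInter.1 hb' ⟨k, hik⟩, rfl⟩
  have hqT : ∀ i, q i '' T i = univ := fun i =>
    IsClopen.eq_univ ⟨hqcl i _ (hT i).1, hqo i _ (hT i).2⟩ ⟨_, p i a, haT i, rfl⟩
  -- `Tinf` is preconnected
  have hpre : IsPreconnected Tinf := by
    have hclosed : IsClosed Tinf := isClosed_iInter fun i => (hT i).1.preimage (hpc i)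
    rw [isPreconnected_iff_subset_of_disjoint]
    intro u v hu hv hsub hdisj
    -- images in a level are clopen
    have himg : ∀ i (u v : Set Y), IsOpen u → IsOpen v → Tinf ⊆ u ∪ v → Tinf ∩ (u ∩ v) = ∅ →
        IsClopen (p i '' (Tinf ∩ u)) := by
      intro i u v hu hv hsub hdisj
      refine ⟨hpcl i _ ?_, ?_⟩
      · rw [show Tinf ∩ u = Tinf ∩ vᶜ from ?_]
        · exact hclosed.inter hv.isClosed_compl
        ext y
        exact ⟨fun ⟨hy, hyu⟩ => ⟨hy, fun hyv => (hdisj.subset ⟨hy, hyu, hyv⟩ : y ∈ (∅ : Set Y))⟩,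
          fun ⟨hy, hyv⟩ => ⟨hy, (hsub hy).resolve_right hyv⟩⟩
      · rw [isOpen_iff_forall_mem_open]
        rintro _ ⟨y, ⟨hyT, hyu⟩, rfl⟩
        obtain ⟨l, V, hV, hyV, hVu⟩ := hgen u hu y hyu
        obtain ⟨k, hik, hlk⟩ := exists_ge_ge i l
        let V' : Set (Yi k) := p k '' (p l ⁻¹' V) ∩ T k
        refine ⟨t i k hik '' V', ?_, ?_, ⟨p k y, ⟨⟨y, hyV, rfl⟩, mem_iInter.1 hyT k⟩, htp i k hik y⟩⟩
        · rintro _ ⟨c, ⟨⟨w, hw, hwc⟩, hcT⟩, rfl⟩
          obtain ⟨b, hb, hbc⟩ := hsurj k c hcT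
          refine ⟨b, ⟨hb, hVu ?_⟩, by rw [← hbc, htp]⟩
          show p l b ∈ V
          rw [← htp l k hlk b, hbc, ← hwc, htp]
          exact hw
        · rw [htimage]
          exact hpo i _ (((hpo k _ (hV.preimage (hpc l))).inter (hT k).2).preimage (hpc k))
    by_contra hne
    push Not at hne
    obtain ⟨⟨yv, hyv, hyv'⟩, ⟨yu, hyu, hyu'⟩⟩ :=
      (⟨not_subset.1 hne.1, not_subset.1 hne.2⟩ : (∃ y ∈ Tinf, y ∉ u) ∧ ∃ y ∈ Tinf, y ∉ v)
    -- the fibre of `u` over `π a` is captured at a finite level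
    have hKc : IsCompact (π ⁻¹' {π a} ∩ (Tinf ∩ vᶜ)) := by
      obtain ⟨i₀⟩ := (inferInstance : Nonempty ι)
      have : π ⁻¹' {π a} = ⋃ c ∈ q i₀ ⁻¹' {π a}, p i₀ ⁻¹' {c} := by
        ext y; simp [hpπ]
      rw [this]
      exact ((hqf i₀ _).isCompact_biUnion fun c _ => hpk i₀ c).inter_right (hclosed.inter hv.isClosed_compl)
    choose! lev V hV hyV hVu using fun y (hy : y ∈ π ⁻¹' {π a} ∩ (Tinf ∩ vᶜ)) =>
      hgen u hu y ((hsub hy.2.1).resolve_right hy.2.2)
    obtain ⟨s, hsK, hs⟩ := hKc.elim_nhds_subcover (fun y => p (lev y) ⁻¹' V y)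
      fun y hy => ((hV y hy).preimage (hpc _)).mem_nhds (hyV y hy)
    obtain ⟨i₀⟩ := (inferInstance : Nonempty ι)
    obtain ⟨k, hk⟩ := Finset.exists_le (s.image lev ∪ {i₀})
    let A := p k '' (Tinf ∩ u)
    let B := p k '' (Tinf ∩ v)
    have hA : IsClopen A := himg k u v hu hv hsub hdisj
    have hB : IsClopen B := himg k v u hv hu (by rwa [union_comm]) (by rwa [inter_comm v u])
    have hAB : A ∩ B = ∅ := by
      by_contra hne
      have : q k '' (A ∩ B) = univ :=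
        IsClopen.eq_univ ⟨hqcl k _ (hA.inter hB).1, hqo k _ (hA.inter hB).2⟩
          ((nonempty_iff_ne_empty.2 hne).image _)
      obtain ⟨c, ⟨⟨b₁, hb₁, hb₁c⟩, ⟨b₂, hb₂, hb₂c⟩⟩, hcz⟩ := this.symm.subset (mem_univ (π a))
      have h1 : b₁ ∈ π ⁻¹' {π a} ∩ (Tinf ∩ vᶜ) := ⟨by
          show π b₁ = π a
          rw [← hpπ k b₁, hb₁c, hcz], hb₁.1,
        fun h => (hdisj.subset ⟨hb₁.1, hb₁.2, h⟩ : b₁ ∈ (∅ : Set Y))⟩
      obtain ⟨y, hy, hyb⟩ := mem_iUnion₂.1 (hs h1)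
      have hlk : lev y ≤ k := hk _ (Finset.mem_union_left _ (Finset.mem_image_of_mem _ hy))
      have h2 : b₂ ∈ u := hVu y (hsK y hy) (by
        show p (lev y) b₂ ∈ V y
        rw [← htp _ k hlk b₂, hb₂c, ← hb₁c, htp]
        exact hyb)
      exact (hdisj.subset ⟨hb₂.1, h2, hb₂.2⟩ : b₂ ∈ (∅ : Set Y))
    have hA0 : p k yu ∈ A := ⟨yu, ⟨hyu, (hsub hyu).resolve_right hyu'⟩, rfl⟩
    have hB0 : p k yv ∈ B := ⟨yv, ⟨hyv, (hsub hyv).resolve_left hyv'⟩, rfl⟩
    exact (hAB.subset ⟨(hTc k).subset_isClopen hA ⟨_, mem_iInter.1 hyu k, hA0⟩ (mem_iInter.1 hyv k), hB0⟩ :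
      p k yv ∈ (∅ : Set (Yi k)))
  obtain ⟨i⟩ := (inferInstance : Nonempty ι)
  obtain ⟨c, hc, hcz⟩ := (hqT i).symm.subset (mem_univ z)
  obtain ⟨b, hb, hbc⟩ := hsurj i c hc
  exact ⟨b, hpre.subset_connectedComponent haTinf hb, by rw [← hpπ i b, hbc, hcz]⟩

end Groth.Agent.CompSurj
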